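import Groth.Agent.MuGLLib.Main

/-!
A character of an affine group which is non-trivial on a central multiplicative group.
-/

set_option autoImplicit false
set_option backward.isDefEq.respectTransparency false
set_option backward.isDefEq.respectTransparency.types false
set_option linter.unusedSectionVars false
set_option linter.style.haveILetI false
set_option maxHeartbeats 2000000
set_option synthInstance.maxHeartbeats 400000

universe u

open CategoryTheory CategoryTheory.Limits MonoidalCategory CartesianMonoidalCategory MonObj GrpObj AlgebraicGeometry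
open WithConv
open scoped TensorProduct

noncomputable section

attribute [-instance] CategoryTheory.Hom.commGroup

namespace Groth.Agent.CentralCharLib

open MuGLLib

variable {k : Type u} [Field k] {C : Type} [CommGroup C] {m : ℕ}

theorem coeff_inl_mul_inr [DecidableEq C] (v w : MonoidAlgebra k C) (a b : C) :
    (MonoidAlgebra.mapDomainAlgHom k k (MonoidHom.inl C C) v *
      MonoidAlgebra.mapDomainAlgHom k k (MonoidHom.inr C C) w).coeff (a, b) = v.coeff a * w.coeff b := by
  classical
  induction v using MonoidAlgebra.induction_linear with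
  | zero => simp
  | add x y hx hy => rw [map_add, add_mul, MonoidAlgebra.coeff_add, Finsupp.add_apply, hx, hy, MonoidAlgebra.coeff_add, Finsupp.add_apply, add_mul]
  | single x r =>
    induction w using MonoidAlgebra.induction_linear with
    | zero => simp
    | add z t hz ht => rw [map_add, mul_add, MonoidAlgebra.coeff_add, Finsupp.add_apply, hz, ht, MonoidAlgebra.coeff_add, Finsupp.add_apply, mul_add]
    | single z t =>
      simp only [MonoidAlgebra.mapDomainAlgHom_apply, MonoidAlgebra.mapDomain_single, MonoidAlgebra.single_mul_single,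
        MonoidAlgebra.coeff_single, Finsupp.single_apply, MonoidHom.inl_apply, MonoidHom.inr_apply, Prod.mk_mul_mk,
        _root_.mul_one, _root_.one_mul, Prod.mk.injEq]
      by_cases hx : x = a <;> by_cases hz : z = b <;> simp [hx, hz]

theorem coeff_diag [DecidableEq C] (v : MonoidAlgebra k C) (a b : C) :
    (MonoidAlgebra.mapDomainAlgHom k k (MonoidHom.prod (MonoidHom.id C) (MonoidHom.id C)) v).coeff (a, b) =
      if a = b then v.coeff a else 0 := by
  induction v using MonoidAlgebra.induction_linear with
  | zero => simp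
  | add x y hx hy =>
    rw [map_add, MonoidAlgebra.coeff_add, Finsupp.add_apply, hx, hy]
    split_ifs <;> simp
  | single x r =>
    simp only [MonoidAlgebra.mapDomainAlgHom_apply, MonoidAlgebra.mapDomain_single, MonoidAlgebra.coeff_single,
      Finsupp.single_apply, MonoidHom.prod_apply, MonoidHom.id_apply, Prod.mk.injEq]
    by_cases hx : x = a
    · subst hx; simp
    · simp [hx]

/-- The coefficient matrices of a multiplicative matrix are orthogonal idempotents. -/
theorem coef_mul [DecidableEq C] {M : Matrix (Fin m) (Fin m) (MonoidAlgebra k C)}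
    (hd : M.map (MonoidAlgebra.mapDomainAlgHom k k (MonoidHom.prod (MonoidHom.id C) (MonoidHom.id C))) =
      M.map (MonoidAlgebra.mapDomainAlgHom k k (MonoidHom.inl C C)) *
        M.map (MonoidAlgebra.mapDomainAlgHom k k (MonoidHom.inr C C))) (a b : C) :
    coef M a * coef M b = if a = b then coef M a else 0 := by
  ext i j
  have h := congrArg (fun X : Matrix (Fin m) (Fin m) (MonoidAlgebra k (C × C)) => (X i j).coeff (a, b)) hd
  simp only [Matrix.map_apply, coeff_diag, Matrix.mul_apply, MonoidAlgebra.coeff_sum, Finsupp.finsetSum_apply,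
    coeff_inl_mul_inr] at h
  rw [Matrix.mul_apply]
  simp only [coef, Matrix.map_apply]
  rw [← h]
  split_ifs <;> simp

/-- The monomial occurring in a piece. -/
theorem exists_det_eq (P : Matrix (Fin m) (Fin m) k) (hP : P * P = P) (hP0 : P ≠ 0) (a : C) :
    ∃ r : ℕ, 1 ≤ r ∧ (MonoidAlgebra.single a (1 : k) • P.map (cst k) + (1 - P.map (cst (C := C) k))).det =
      MonoidAlgebra.single (a ^ r) 1 := by
  classical
  let S : Multiplicative (ZMod 2) → Matrix (Fin m) (Fin m) k := fun z => if z = 1 then 1 - P else P
  have hu : ∀ z : Multiplicative (ZMod 2), z = 1 ∨ z = Multiplicative.ofAdd 1 := by decide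
  have hne : Multiplicative.ofAdd (1 : ZMod 2) ≠ 1 := by decide
  have hS : IsSys S := by
    refine ⟨fun x y => ?_, ?_⟩
    · rcases hu x with rfl | rfl <;> rcases hu y with rfl | rfl <;>
        simp [S, hne, hne.symm, mul_sub, sub_mul, hP]
    · rw [show (Finset.univ : Finset (Multiplicative (ZMod 2))) = {1, Multiplicative.ofAdd 1} from by decide,
        Finset.sum_pair hne.symm]
      simp [S, hne]
  obtain ⟨c, G, hG⟩ := exists_diag hS
  let D := diagC k c (Multiplicative.ofAdd 1)
  have hGP : (G : Matrix (Fin m) (Fin m) k) * P = D * G := by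
    have := hG (Multiplicative.ofAdd 1)
    simpa [S, hne] using this
  let s := Finset.univ.filter fun i => c i = Multiplicative.ofAdd 1
  refine ⟨s.card, ?_, ?_⟩
  · refine Finset.card_pos.2 ?_
    by_contra h
    apply hP0
    have hD : D = 0 := by
      ext i j
      simp only [D, diagC, Matrix.diagonal_apply, Matrix.zero_apply]
      split_ifs with h1 h2
      · exact absurd ⟨i, Finset.mem_filter.2 ⟨Finset.mem_univ i, h2⟩⟩ h
      · rfl
      · rfl
    rw [hD, zero_mul] at hGP
    calc P = ((G⁻¹ : GL (Fin m) k) : Matrix _ _ k) * ((G : Matrix _ _ k) * P) := (Units.inv_mul_cancel_left G _).symm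
      _ = 0 := by rw [hGP, mul_zero]
  · let φ := (cst (C := C) k).mapMatrix (m := Fin m)
    let Gu : (Matrix (Fin m) (Fin m) (MonoidAlgebra k C))ˣ := Units.map φ.toMonoidHom G
    have e : (Gu : Matrix _ _ (MonoidAlgebra k C)) * (MonoidAlgebra.single a (1 : k) • φ P + (1 - φ P)) =
        (MonoidAlgebra.single a (1 : k) • φ D + (1 - φ D)) * (Gu : Matrix _ _ (MonoidAlgebra k C)) := by
      have e1 : (Gu : Matrix _ _ (MonoidAlgebra k C)) * φ P = φ D * (Gu : Matrix _ _ (MonoidAlgebra k C)) := by
        show φ G * φ P = φ D * φ G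
        rw [← map_mul, hGP, map_mul]
      simp only [mul_add, add_mul, mul_sub, sub_mul, Matrix.mul_smul, Matrix.smul_mul, e1, _root_.mul_one,
        _root_.one_mul]
    have e2 := congrArg Matrix.det e
    rw [Matrix.det_mul, Matrix.det_mul, mul_comm] at e2
    have hunit : IsUnit (Gu : Matrix (Fin m) (Fin m) (MonoidAlgebra k C)).det :=
      (Matrix.isUnit_iff_isUnit_det (Gu : Matrix (Fin m) (Fin m) (MonoidAlgebra k C))).1 Gu.isUnit
    refine (hunit.mul_right_cancel e2).trans ?_
    have e3 : MonoidAlgebra.single a (1 : k) • φ D + (1 - φ D) =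
        Matrix.diagonal fun i => if c i = Multiplicative.ofAdd 1 then MonoidAlgebra.single a (1 : k) else 1 := by
      ext i j : 1
      by_cases hij : i = j
      · subst hij
        by_cases hc : c i = Multiplicative.ofAdd 1 <;>
          simp [φ, D, diagC, hc, MonoidAlgebra.one_def]
      · simp [φ, D, diagC, hij]
    rw [e3, Matrix.det_diagonal, Finset.prod_ite, Finset.prod_const_one, _root_.mul_one, Finset.prod_const,
      MonoidAlgebra.single_pow, one_pow]

variable {A : Type u} [CommRing A]

/-- The modified matrix of a piece commuting with the group. -/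
def twist (P N : Matrix (Fin m) (Fin m) A) : Matrix (Fin m) (Fin m) A := P * N + (1 - P)

theorem twist_mul {P N N' : Matrix (Fin m) (Fin m) A} (hP : P * P = P) (hN : P * N = N * P) :
    twist P N * twist P N' = twist P (N * N') := by
  have e1 : P * N * (P * N') = P * (N * N') := by
    rw [_root_.mul_assoc, ← _root_.mul_assoc N, ← hN, ← _root_.mul_assoc, ← _root_.mul_assoc, hP, _root_.mul_assoc]
  have e2 : P * N * (1 - P) = 0 := by
    rw [_root_.mul_sub, _root_.mul_one, _root_.mul_assoc, ← hN, ← _root_.mul_assoc, hP, sub_self]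
  have e3 : (1 - P) * (P * N') = 0 := by
    rw [_root_.sub_mul, _root_.one_mul, ← _root_.mul_assoc, hP, sub_self]
  have e4 : (1 - P) * (1 - P) = 1 - P := by
    rw [_root_.sub_mul, _root_.one_mul, _root_.mul_sub, _root_.mul_one, hP, sub_self, sub_zero]
  simp only [twist, add_mul, mul_add, e1, e2, e3, e4, zero_add, add_zero]

theorem map_twist {B : Type u} [CommRing B] (f : A →+* B) (P N : Matrix (Fin m) (Fin m) A) :
    (twist P N).map f = (P.map f) * (N.map f) + (1 - P.map f) := by
  show f.mapMatrix (P * N + (1 - P)) = f.mapMatrix P * f.mapMatrix N + (1 - f.mapMatrix P)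
  rw [map_add, map_mul, map_sub, map_one]

variable [HopfAlgebra k A]

/-- The statement, for the spectrum of a Hopf algebra with a faithful matrix. -/
theorem exists_char (π : CoordGrp.GLn m k →ₐc[k] A) (hπ : Function.Surjective π)
    (d : WC k (Multiplicative ℤ) ⟶ W k A) [IsMonHom d] [Mono d]
    (hcent : ∀ (T : Over (Spec (CommRingCat.of k))) (t : T ⟶ WC k (Multiplicative ℤ)) (g : T ⟶ W k A),
      (t ≫ d) * g = g * (t ≫ d)) :
    ∃ (χ : W k A ⟶ WC k (Multiplicative ℤ)) (n : ℕ), IsMonHom χ ∧ 1 ≤ n ∧ d ≫ χ = 𝟙 (WC k (Multiplicative ℤ)) ^ n := by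
  classical
  let x : W k A ⟶ GLsp k m := (TorusField.specHom π).hom.hom
  haveI : IsMonHom x := (TorusField.specHom π).hom.isMonHom_hom
  haveI : IsClosedImmersion x.left := IsClosedImmersion.spec_of_surjective _ hπ
  haveI : Mono x := (Over.forget _).mono_of_mono_map (inferInstanceAs (Mono x.left))
  haveI : IsMonHom (d ≫ x) := inferInstance
  haveI : Mono (d ≫ x) := mono_comp d x
  let N := mat x
  let M := mat (d ≫ x)
  let P := coef M
  have hd : M.map (MonoidAlgebra.mapDomainAlgHom k k (MonoidHom.prod (MonoidHom.id _) (MonoidHom.id _))) =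
      M.map (MonoidAlgebra.mapDomainAlgHom k k (MonoidHom.inl (Multiplicative ℤ) (Multiplicative ℤ))) *
        M.map (MonoidAlgebra.mapDomainAlgHom k k (MonoidHom.inr _ _)) := by
    simp only [M, ← mat_wmap]
    rw [← mat_mul, ← MonObj.mul_comp]
    congr 2
    have e : toConv (MonoidAlgebra.mapDomainAlgHom k k (MonoidHom.inl (Multiplicative ℤ) (Multiplicative ℤ))) *
        toConv (MonoidAlgebra.mapDomainAlgHom k k (MonoidHom.inr (Multiplicative ℤ) (Multiplicative ℤ))) =
      toConv (MonoidAlgebra.mapDomainAlgHom k k (MonoidHom.prod (MonoidHom.id _) (MonoidHom.id _))) := by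
      apply WithConv.ofConv_injective
      apply MonoidAlgebra.algHom_ext
      · intro a
        simp [AlgHom.convMul_apply, MonoidAlgebra.comul_single, MonoidAlgebra.single_mul_single]
      · ext
    have e' := congrArg (Spec.mapMulEquiv (R := k)) e
    rw [map_mul] at e'
    exact e'.symm
  have hP : ∀ a b, P a * P b = if a = b then P a else 0 := coef_mul hd
  have hε : M.map (MonoidAlgebra.lift k k (Multiplicative ℤ) 1) = 1 := by
    simp only [M, ← mat_wmap]
    have : wmap (MonoidAlgebra.lift k k (Multiplicative ℤ) 1) = (1 : W k k ⟶ WC k (Multiplicative ℤ)) := by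
      have e : (1 : WithConv (MonoidAlgebra k (Multiplicative ℤ) →ₐ[k] k)) = toConv (MonoidAlgebra.lift k k _ 1) := by
        apply WithConv.ofConv_injective
        apply MonoidAlgebra.algHom_ext
        · intro a
          show algebraMap k k (CoalgebraStruct.counit (R := k) (MonoidAlgebra.single a (1 : k))) = _
          simp [MonoidAlgebra.counit_single]
        · ext
      show Spec.mapMulEquiv (R := k) (toConv _) = _
      rw [← e, map_one]
    rw [this, MonObj.one_comp, mat_one]
  obtain ⟨a, ha1, haP⟩ : ∃ a, a ≠ 1 ∧ P a ≠ 0 := by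
    by_contra hno
    simp only [not_exists, not_and, not_not] at hno
    have hM : M = (P 1).map (cst (C := Multiplicative ℤ) k) := by
      ext i j : 1
      ext b
      rw [Matrix.map_apply]
      simp only [cst, MonoidAlgebra.coe_algebraMap, Function.comp_apply, MonoidAlgebra.coeff_single,
        Finsupp.single_apply, Algebra.algebraMap_self, RingHom.id_apply]
      split_ifs with hb
      · subst hb; rfl
      · have := congrFun (congrFun (hno b (Ne.symm hb)) i) j
        exact this
    have hP1 : P 1 = 1 := by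
      rw [hM, Matrix.map_map] at hε
      rw [← hε]
      ext i j
      simp [cst]
    have : d ≫ x = 1 := mat_injective (by
      rw [mat_one]
      show M = 1
      rw [hM, hP1, Matrix.map_one _ (map_zero _) (map_one _)])
    have h1 : (𝟙 (WC k (Multiplicative ℤ)) : WC k (Multiplicative ℤ) ⟶ WC k (Multiplicative ℤ)) = 1 :=
      (cancel_mono (d ≫ x)).1 (by rw [Category.id_comp, MonObj.one_comp, this])
    rw [← wmap_id] at h1
    have h2 : AlgHom.id k (MonoidAlgebra k (Multiplicative ℤ)) =
        (1 : WithConv (MonoidAlgebra k (Multiplicative ℤ) →ₐ[k] MonoidAlgebra k (Multiplicative ℤ))).ofConv := by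
      apply wmap_injective (R := k)
      rw [h1]
      exact (map_one (Spec.mapMulEquiv (R := k))).symm
    have h3 := DFunLike.congr_fun h2 (MonoidAlgebra.single (Multiplicative.ofAdd (1 : ℤ)) 1)
    change _ = algebraMap k (MonoidAlgebra k (Multiplicative ℤ))
      (CoalgebraStruct.counit (R := k) (MonoidAlgebra.single (Multiplicative.ofAdd (1 : ℤ)) (1 : k))) at h3
    rw [MonoidAlgebra.counit_single] at h3
    have h4 := congrArg (fun w => MonoidAlgebra.coeff w (Multiplicative.ofAdd (1 : ℤ))) h3
    simp [MonoidAlgebra.coe_algebraMap, Finsupp.single_apply] at h4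
  let PA : Matrix (Fin m) (Fin m) A := (P a).map (algebraMap k A)
  have hPA : PA * PA = PA := by
    show (algebraMap k A).mapMatrix (P a) * (algebraMap k A).mapMatrix (P a) = (algebraMap k A).mapMatrix (P a)
    rw [← map_mul, hP, if_pos rfl]
  have hcomm : PA * N = N * PA := by
    let jk : MonoidAlgebra k (Multiplicative ℤ) →ₐ[k] (MonoidAlgebra A (Multiplicative ℤ)) := MonoidAlgebra.mapAlgHom _ (Algebra.ofId k A)
    let ja : A →ₐ[k] (MonoidAlgebra A (Multiplicative ℤ)) := IsScalarTower.toAlgHom k A (MonoidAlgebra A (Multiplicative ℤ))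
    have e := congrArg (fun z => mat (z ≫ x)) (hcent (W k (MonoidAlgebra A (Multiplicative ℤ))) (wmap jk) (wmap ja))
    simp only [MonObj.mul_comp, mat_mul, mat_wmap, Category.assoc] at e
    ext i j
    have e' := congrArg (fun X : Matrix (Fin m) (Fin m) (MonoidAlgebra A (Multiplicative ℤ)) => (X i j).coeff a) e
    have hjk : ∀ (w : MonoidAlgebra k (Multiplicative ℤ)) (r : A),
        (jk w * ja r).coeff a = algebraMap k A (w.coeff a) * r := by
      intro w r
      induction w using MonoidAlgebra.induction_linear with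
      | zero => simp
      | add y z hy hz => rw [map_add, add_mul, MonoidAlgebra.coeff_add, Finsupp.add_apply, hy, hz, MonoidAlgebra.coeff_add, Finsupp.add_apply, map_add, add_mul]
      | single y t =>
        show (jk _ * algebraMap A (MonoidAlgebra A (Multiplicative ℤ)) r).coeff a = _
        simp [jk, MonoidAlgebra.coe_algebraMap, MonoidAlgebra.single_mul_single, Finsupp.single_apply]
        split_ifs <;> simp
    simp only [Matrix.mul_apply, MonoidAlgebra.coeff_sum, Finsupp.finsetSum_apply, Matrix.map_apply] at e'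
    simp only [hjk, mul_comm (ja _)] at e'
    rw [Matrix.mul_apply, Matrix.mul_apply]
    refine e'.trans (Finset.sum_congr rfl fun l _ => mul_comm _ _)
  obtain ⟨G, hG, hG'⟩ := exists_gl x
  let Q := twist PA N
  let Q' := twist PA ((G⁻¹ : GL (Fin m) A) : Matrix (Fin m) (Fin m) A)
  have hQ : Q * Q' = 1 := by
    rw [twist_mul hPA hcomm, show N * ((G⁻¹ : GL (Fin m) A) : Matrix (Fin m) (Fin m) A) = 1 by
      rw [show N = (G : Matrix (Fin m) (Fin m) A) from hG.symm, Units.mul_inv]]
    simp [twist]
  let u : Aˣ := ⟨Q.det, Q'.det, by rw [← Matrix.det_mul, hQ, Matrix.det_one],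
    by rw [mul_comm, ← Matrix.det_mul, hQ, Matrix.det_one]⟩
  -- comultiplication of the matrix
  have hNΔ : N.map (Bialgebra.comulAlgHom k A) =
      N.map (Algebra.TensorProduct.includeLeft : A →ₐ[k] A ⊗[k] A) *
        N.map (Algebra.TensorProduct.includeRight : A →ₐ[k] A ⊗[k] A) := by
    ext i j
    have e : ptAlg x = (π : CoordGrp.GLn m k →ₐ[k] A) := by
      rw [show x = Spec.mapMulEquiv (R := k) (toConv (π : CoordGrp.GLn m k →ₐ[k] A)) from Over.OverMorphism.ext rfl,
        ptAlg_spec]
    show Bialgebra.comulAlgHom k A (ptAlg x (CoordGrp.GLn.X i j)) = _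
    rw [e, Matrix.mul_apply]
    simp only [N, mat, e, Matrix.map_apply, CoordGrp.GLn.genMat]
    show Coalgebra.comul (R := k) (π (CoordGrp.GLn.X i j)) = _
    rw [← CoalgHomClass.map_comp_comul_apply, CoordGrp.GLn.comul_X, map_sum]
    simp
  have hu : Coalgebra.comul (R := k) Q.det = Q.det ⊗ₜ[k] Q.det := by
    let iL : A →ₐ[k] A ⊗[k] A := Algebra.TensorProduct.includeLeft
    let iR : A →ₐ[k] A ⊗[k] A := Algebra.TensorProduct.includeRight
    have hc : ∀ f : A →ₐ[k] A ⊗[k] A, PA.map f = (P a).map (algebraMap k (A ⊗[k] A)) := fun f => by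
      ext i j
      simp only [PA, Matrix.map_apply, f.commutes]
    have e : (twist PA N).map (Bialgebra.comulAlgHom k A) = (twist PA N).map iL * (twist PA N).map iR := by
      let P' : Matrix (Fin m) (Fin m) (A ⊗[k] A) := (P a).map (algebraMap k (A ⊗[k] A))
      have m1 : ∀ f : A →ₐ[k] A ⊗[k] A, (twist PA N).map f = P' * N.map f + (1 - P') := fun f => by
        have h := map_twist f.toRingHom PA N
        rw [show PA.map f.toRingHom = P' from hc f] at h
        exact h
      have hP' : P' * P' = P' := by
        show (algebraMap k (A ⊗[k] A)).mapMatrix (P a) * (algebraMap k (A ⊗[k] A)).mapMatrix (P a) =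
          (algebraMap k (A ⊗[k] A)).mapMatrix (P a)
        rw [← map_mul, hP, if_pos rfl]
      have hP'N : P' * N.map iL = N.map iL * P' := by
        rw [show P' = PA.map iL from (hc iL).symm]
        show iL.mapMatrix PA * iL.mapMatrix N = iL.mapMatrix N * iL.mapMatrix PA
        rw [← map_mul, hcomm, map_mul]
      rw [m1, m1, m1, hNΔ]
      have key := twist_mul (N' := N.map iR) hP' hP'N
      exact key.symm
    have e2 := congrArg Matrix.det e
    rw [Matrix.det_mul] at e2
    rw [← Bialgebra.comulAlgHom_apply, AlgHom.map_det]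
    refine e2.trans ?_
    rw [show (twist PA N).map iL = iL.mapMatrix Q from rfl, show (twist PA N).map iR = iR.mapMatrix Q from rfl,
      ← AlgHom.map_det, ← AlgHom.map_det]
    simp [iL, iR]
  let δ := ptAlg (d ≫ x)
  obtain ⟨ψ, hψ⟩ := exists_wmap d
  have hψN : N.map ψ = M := by
    show _ = mat (d ≫ x)
    rw [← hψ, mat_wmap]
  obtain ⟨r, hr, hdet⟩ := exists_det_eq (C := Multiplicative ℤ) (P a) (by rw [hP, if_pos rfl]) haP a
  have hQψ : ψ Q.det = MonoidAlgebra.single (a ^ r) 1 := by
    rw [AlgHom.map_det, ← hdet]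
    congr 1
    show (twist PA N).map ψ.toRingHom = _
    rw [map_twist]
    have e1 : PA.map ψ.toRingHom = (P a).map (cst (C := Multiplicative ℤ) k) := by
      ext i j : 1
      show ψ (algebraMap k A (P a i j)) = algebraMap k _ (P a i j)
      exact ψ.commutes _
    rw [e1, show N.map ψ.toRingHom = M from hψN]
    congr 1
    ext i j : 1
    ext b
    rw [Matrix.mul_apply, MonoidAlgebra.coeff_sum, Finsupp.finsetSum_apply]
    have : ∀ (t : k) (w : MonoidAlgebra k (Multiplicative ℤ)), (algebraMap k _ t * w).coeff b = t * w.coeff b := by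
      intro t w
      induction w using MonoidAlgebra.induction_linear with
      | zero => simp
      | add y z hy hz => simp [mul_add, hy, hz]
      | single y s =>
        simp [MonoidAlgebra.coe_algebraMap, MonoidAlgebra.single_mul_single, Finsupp.single_apply]
        intro h h'
        exact absurd h' h
    simp only [Matrix.map_apply, this]
    change (P a * P b) i j = _
    rw [hP]
    simp only [Matrix.smul_apply, Matrix.map_apply, smul_eq_mul, MonoidAlgebra.coe_algebraMap, Function.comp_apply,
      Algebra.algebraMap_self, RingHom.id_apply, MonoidAlgebra.single_mul_single, _root_.one_mul, _root_.mul_one,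
      MonoidAlgebra.coeff_single, Finsupp.single_apply]
    split_ifs <;> simp_all
  let z : ℤ := Multiplicative.toAdd (a ^ r)
  have hz : z ≠ 0 := by
    intro h
    have : (r : ℤ) * Multiplicative.toAdd a = 0 := by
      rw [← h]; simp [z]
    rcases mul_eq_zero.1 this with h' | h'
    · omega
    · exact ha1 (Multiplicative.toAdd.injective (by simpa using h'))
  let sgn : ℤ := z.sign
  have hsgn : sgn * z = (z.natAbs : ℤ) := by rw [Int.sign_mul_self_eq_natAbs]
  let φ₀ : MonoidAlgebra k (Multiplicative ℤ) →ₐ[k] A :=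
    MonoidAlgebra.lift k A (Multiplicative ℤ) ((Units.coeHom A).comp (zpowersHom Aˣ (u ^ sgn)))
  have hgl : ∀ w : Aˣ, Coalgebra.comul (R := k) (w : A) = (w : A) ⊗ₜ[k] (w : A) →
      ∀ e : ℤ, Coalgebra.comul (R := k) ((w ^ e : Aˣ) : A) = ((w ^ e : Aˣ) : A) ⊗ₜ[k] ((w ^ e : Aˣ) : A) := by
    intro w hw e
    let c : Aˣ →* (A ⊗[k] A)ˣ := Units.map (Bialgebra.comulAlgHom k A : A →* A ⊗[k] A)
    let t : Aˣ →* (A ⊗[k] A)ˣ :=
      Units.map ((Algebra.TensorProduct.includeLeft : A →ₐ[k] A ⊗[k] A) : A →* A ⊗[k] A) *
        Units.map ((Algebra.TensorProduct.includeRight : A →ₐ[k] A ⊗[k] A) : A →* A ⊗[k] A)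
    have h1 : c w = t w := Units.ext (by
      show Coalgebra.comul (R := k) (w : A) = ((w : A) ⊗ₜ[k] (1 : A)) * ((1 : A) ⊗ₜ[k] (w : A))
      rw [hw, Algebra.TensorProduct.tmul_mul_tmul, _root_.mul_one, _root_.one_mul])
    have h2 : c (w ^ e) = t (w ^ e) := by rw [map_zpow, map_zpow, h1]
    have h3 := congrArg Units.val h2
    change Coalgebra.comul (R := k) ((w ^ e : Aˣ) : A) =
      (((w ^ e : Aˣ) : A) ⊗ₜ[k] (1 : A)) * ((1 : A) ⊗ₜ[k] ((w ^ e : Aˣ) : A)) at h3
    rw [h3, Algebra.TensorProduct.tmul_mul_tmul, _root_.mul_one, _root_.one_mul]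
  have hcounit : ∀ w : Aˣ, Coalgebra.comul (R := k) (w : A) = (w : A) ⊗ₜ[k] (w : A) →
      Coalgebra.counit (R := k) (w : A) = 1 := by
    intro w hw
    have e := Coalgebra.rTensor_counit_comul (R := k) (w : A)
    rw [hw, LinearMap.rTensor_tmul] at e
    have e2 := congrArg (TensorProduct.lid k A) e
    simp only [TensorProduct.lid_tmul, one_smul, Algebra.smul_def] at e2
    have e3 : algebraMap k A (Coalgebra.counit (R := k) (w : A)) = 1 := by
      have := congrArg (fun y => y * ((w⁻¹ : Aˣ) : A)) e2
      simpa [_root_.mul_assoc] using this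
    have e4 := congrArg (Bialgebra.counitAlgHom k A) e3
    simpa using e4
  have hs : Coalgebra.comul (R := k) ((u ^ sgn : Aˣ) : A) = _ := hgl u hu sgn
  let φ : MonoidAlgebra k (Multiplicative ℤ) →ₐc[k] A := BialgHom.ofAlgHom φ₀
    (by
      apply MonoidAlgebra.algHom_ext
      · intro b
        simp only [AlgHom.comp_apply, Bialgebra.counitAlgHom_apply, φ₀, MonoidAlgebra.lift_single, one_smul,
          MonoidHom.comp_apply, Units.coeHom_apply, zpowersHom_apply]
        rw [hcounit _ (hgl _ hs _)]
        simp [MonoidAlgebra.counit_single]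
      · ext)
    (by
      apply MonoidAlgebra.algHom_ext
      · intro b
        simp only [AlgHom.comp_apply, Bialgebra.comulAlgHom_apply, φ₀, MonoidAlgebra.lift_single, one_smul,
          MonoidHom.comp_apply, Units.coeHom_apply, zpowersHom_apply, MonoidAlgebra.comul_single]
        rw [hgl _ hs _]
        simp [φ₀]
      · ext)
  refine ⟨(TorusField.specHom φ).hom.hom, z.natAbs, (TorusField.specHom φ).hom.isMonHom_hom,
    Int.natAbs_pos.2 hz, ?_⟩
  have hχ : (TorusField.specHom φ).hom.hom = (wmap φ₀ : W k A ⟶ WC k (Multiplicative ℤ)) := Over.OverMorphism.ext rfl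
  rw [hχ, ← hψ, wmap_comp]
  have hid : (𝟙 (WC k (Multiplicative ℤ)) : WC k (Multiplicative ℤ) ⟶ WC k (Multiplicative ℤ)) =
      Spec.mapMulEquiv (R := k) (toConv (AlgHom.id k (MonoidAlgebra k (Multiplicative ℤ)))) := (wmap_id _).symm
  rw [hid, ← map_pow]
  show Spec.mapMulEquiv (R := k) (toConv (ψ.comp φ₀)) = _
  congr 1
  apply WithConv.ofConv_injective
  apply MonoidAlgebra.algHom_ext
  · intro b
    have hp : ∀ q : ℕ, ((toConv (AlgHom.id k (MonoidAlgebra k (Multiplicative ℤ)))) ^ q).ofConv
        (MonoidAlgebra.single b 1) = MonoidAlgebra.single (b ^ q) 1 := by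
      intro q
      induction q with
      | zero =>
        rw [pow_zero, pow_zero]
        show algebraMap k _ (CoalgebraStruct.counit (R := k) (MonoidAlgebra.single b (1 : k))) = _
        simp [MonoidAlgebra.counit_single, MonoidAlgebra.one_def]
      | succ q ih =>
        rw [pow_succ, AlgHom.convMul_apply, MonoidAlgebra.comul_single]
        simp [ih, pow_succ, MonoidAlgebra.single_mul_single]
    rw [hp]
    show ψ (φ₀ (MonoidAlgebra.single b 1)) = _
    simp only [φ₀, MonoidAlgebra.lift_single, one_smul, MonoidHom.comp_apply, Units.coeHom_apply, zpowersHom_apply]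
    let ψu : Aˣ →* (MonoidAlgebra k (Multiplicative ℤ))ˣ := Units.map (ψ : A →* MonoidAlgebra k (Multiplicative ℤ))
    let ofu : Multiplicative ℤ →* (MonoidAlgebra k (Multiplicative ℤ))ˣ :=
      (MonoidAlgebra.of k (Multiplicative ℤ)).toHomUnits
    have h1 : ψu u = ofu (a ^ r) := Units.ext hQψ
    show (ψu ((u ^ sgn) ^ Multiplicative.toAdd b) : MonoidAlgebra k (Multiplicative ℤ)) = _
    rw [map_zpow, map_zpow, h1, ← map_zpow, ← map_zpow]
    show MonoidAlgebra.single (((a ^ r) ^ sgn) ^ Multiplicative.toAdd b) (1 : k) = _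
    congr 1
    apply Multiplicative.toAdd.injective
    simp only [toAdd_zpow, smul_eq_mul, show Multiplicative.toAdd (a ^ r) = z from rfl]
    rw [hsgn]
    simp [mul_comm]
  · ext

end Groth.Agent.CentralCharLib
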